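import Mathlib.AlgebraicGeometry.IdealSheaf.Subscheme
import Mathlib.AlgebraicGeometry.Morphisms.ClosedImmersion
import Mathlib.AlgebraicGeometry.Morphisms.Affine
import Groth.Agent.Lib.Thickening.Affine
import Groth.Agent.Lib.RedSub.Basic

/-!
A scheme covered by two closed affine subschemes is affine.
-/

set_option backward.isDefEq.respectTransparency false

universe u

open CategoryTheory CategoryTheory.Limits AlgebraicGeometry TopologicalSpace Opposite

namespace GrothLib.AffUnion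

variable {X : Scheme.{u}}

/-- Restriction of a global function along a morphism. -/
noncomputable abbrev res {Y : Scheme.{u}} (f : Y ⟶ X) : Γ(X, ⊤) →+* Γ(Y, ⊤) := f.appTop.hom

theorem res_comp {Y Z : Scheme.{u}} (f : Y ⟶ X) (g : Z ⟶ Y) (a : Γ(X, ⊤)) :
    res (g ≫ f) a = res g (res f a) := by
  simp [res, Scheme.Hom.comp_appTop]

theorem basicOpen_res_top {Y : Scheme.{u}} (f : Y ⟶ X) (a : Γ(X, ⊤)) :
    f ⁻¹ᵁ X.basicOpen a = Y.basicOpen (res f a) := by
  rw [Scheme.preimage_basicOpen]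
  rfl

theorem res_surjective {Y : Scheme.{u}} (f : Y ⟶ X) [IsClosedImmersion f] [IsAffine X] :
    Function.Surjective (res f) :=
  f.app_surjective ⊤ (isAffineOpen_top X)

variable (I₁ I₂ : X.IdealSheafData)

/-- The intersection of the two closed subschemes. -/
noncomputable abbrev j₁ : (I₁ ⊔ I₂).subscheme ⟶ I₁.subscheme :=
  Scheme.IdealSheafData.inclusion (le_sup_left : I₁ ≤ I₁ ⊔ I₂)

/-- The intersection of the two closed subschemes, in the second one. -/
noncomputable abbrev j₂ : (I₁ ⊔ I₂).subscheme ⟶ I₂.subscheme :=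
  Scheme.IdealSheafData.inclusion (le_sup_right : I₂ ≤ I₁ ⊔ I₂)

instance isClosedImmersion_j₁ : IsClosedImmersion (j₁ I₁ I₂) :=
  have : IsClosedImmersion (j₁ I₁ I₂ ≫ I₁.subschemeι) := by
    rw [Scheme.IdealSheafData.inclusion_subschemeι]
    infer_instance
  IsClosedImmersion.of_comp _ I₁.subschemeι

instance isClosedImmersion_j₂ : IsClosedImmersion (j₂ I₁ I₂) :=
  have : IsClosedImmersion (j₂ I₁ I₂ ≫ I₂.subschemeι) := by
    rw [Scheme.IdealSheafData.inclusion_subschemeι]
    infer_instance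
  IsClosedImmersion.of_comp _ I₂.subschemeι

variable {I₁ I₂} (hcov : ∀ x : X, x ∈ I₁.support ∨ x ∈ I₂.support) [IsReduced X]

include hcov in
theorem eq_of_app_eq {U : X.Opens} (a b : Γ(X, U))
    (h₁ : I₁.subschemeι.app U a = I₁.subschemeι.app U b)
    (h₂ : I₂.subschemeι.app U a = I₂.subschemeι.app U b) : a = b := by
  rw [← sub_eq_zero]
  refine eq_zero_of_basicOpen_eq_bot _ (Opens.ext (Set.eq_empty_iff_forall_notMem.mpr fun x hx => ?_))
  rcases hcov x with h | h <;> rw [← SetLike.mem_coe, ← Scheme.IdealSheafData.range_subschemeι] at h <;>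
    obtain ⟨z, rfl⟩ := h
  · have hz : z ∈ I₁.subschemeι ⁻¹ᵁ X.basicOpen (a - b) := hx
    rw [Scheme.preimage_basicOpen, map_sub, h₁, sub_self] at hz
    simp at hz
  · have hz : z ∈ I₂.subschemeι ⁻¹ᵁ X.basicOpen (a - b) := hx
    rw [Scheme.preimage_basicOpen, map_sub, h₂, sub_self] at hz
    simp at hz

include hcov in
/-- Functions on the two pieces agreeing on the intersection glue. -/
theorem exists_glue (a : Γ(I₁.subscheme, ⊤)) (b : Γ(I₂.subscheme, ⊤))
    (hab : res (j₁ I₁ I₂) a = res (j₂ I₁ I₂) b) :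
    ∃ f : Γ(X, ⊤), res I₁.subschemeι f = a ∧ res I₂.subschemeι f = b := by
  let r₁ : ∀ (U : X.Opens), Γ(I₁.subscheme, I₁.subschemeι ⁻¹ᵁ U) := fun U =>
    I₁.subscheme.presheaf.map (homOfLE le_top).op a
  let r₂ : ∀ (U : X.Opens), Γ(I₂.subscheme, I₂.subschemeι ⁻¹ᵁ U) := fun U =>
    I₂.subscheme.presheaf.map (homOfLE le_top).op b
  have hloc : ∀ U : X.affineOpens, ∃ s : Γ(X, U.1),
      I₁.subschemeι.app U s = r₁ U.1 ∧ I₂.subschemeι.app U s = r₂ U.1 := by
    intro U
    obtain ⟨α, hα⟩ := I₁.subschemeι_app_surjective U (r₁ U.1)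
    obtain ⟨β, hβ⟩ := I₂.subschemeι_app_surjective U (r₂ U.1)
    let ι := (I₁ ⊔ I₂).subschemeι
    have hmem : α - β ∈ RingHom.ker (ι.app U).hom := by
      have key : ∀ (I : X.IdealSheafData) (hI : I ≤ I₁ ⊔ I₂) (c : Γ(I.subscheme, ⊤)) (γ : Γ(X, U.1)),
          I.subschemeι.app U γ = I.subscheme.presheaf.map (homOfLE le_top).op c →
          ι.app U γ = (I₁ ⊔ I₂).subscheme.presheaf.map (homOfLE le_top).op
            (res (Scheme.IdealSheafData.inclusion hI) c) := by
        intro I hI c γ hγ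
        have e : ι = Scheme.IdealSheafData.inclusion hI ≫ I.subschemeι :=
          (Scheme.IdealSheafData.inclusion_subschemeι hI).symm
        rw [Scheme.Hom.congr_app e, Scheme.Hom.comp_app, CommRingCat.comp_apply, CommRingCat.comp_apply, hγ]
        rw [← CommRingCat.comp_apply ((I.subscheme.presheaf.map _)), Scheme.Hom.naturality, CommRingCat.comp_apply,
          ← CommRingCat.comp_apply, ← Functor.map_comp]
        rfl
      rw [RingHom.mem_ker, map_sub]
      show ι.app U α - ι.app U β = 0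
      rw [key I₁ le_sup_left a α hα, key I₂ le_sup_right b β hβ, show res (Scheme.IdealSheafData.inclusion _) a = _ from hab,
        sub_self]
    rw [Scheme.IdealSheafData.ker_subschemeι_app, Scheme.IdealSheafData.ideal_sup, Pi.sup_apply] at hmem
    obtain ⟨u, hu, v, hv, huv⟩ := Submodule.mem_sup.mp hmem
    rw [← Scheme.IdealSheafData.ker_subschemeι_app, RingHom.mem_ker] at hu hv
    refine ⟨α - u, ?_, ?_⟩
    · rw [map_sub, hα, show I₁.subschemeι.app U u = 0 from hu, sub_zero]
    · rw [show α - u = β + v by linear_combination -huv, map_add, hβ,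
        show I₂.subschemeι.app U v = 0 from hv, add_zero]
  choose s hs₁ hs₂ using hloc
  have hres : ∀ (U : X.affineOpens) (W : X.Opens) (h : W ≤ U.1),
      I₁.subschemeι.app W (X.presheaf.map (homOfLE h).op (s U)) = r₁ W ∧
        I₂.subschemeι.app W (X.presheaf.map (homOfLE h).op (s U)) = r₂ W := by
    intro U W h
    refine ⟨?_, ?_⟩
    · rw [← CommRingCat.comp_apply, Scheme.Hom.naturality, CommRingCat.comp_apply, hs₁]
      rw [← CommRingCat.comp_apply, ← Functor.map_comp]
      rfl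
    · rw [← CommRingCat.comp_apply, Scheme.Hom.naturality, CommRingCat.comp_apply, hs₂]
      rw [← CommRingCat.comp_apply, ← Functor.map_comp]
      rfl
  obtain ⟨f, hf, -⟩ := X.sheaf.existsUnique_gluing' (fun U : X.affineOpens => U.1) ⊤
    (fun U => homOfLE le_top) (iSup_affineOpens_eq_top X).ge s (fun U V => by
      obtain ⟨h1, h2⟩ := hres U (U.1 ⊓ V.1) inf_le_left
      obtain ⟨h3, h4⟩ := hres V (U.1 ⊓ V.1) inf_le_right
      exact eq_of_app_eq hcov _ _ (h1.trans h3.symm) (h2.trans h4.symm))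
  refine ⟨f, ?_, ?_⟩
  · refine TopCat.Sheaf.eq_of_locally_eq' I₁.subscheme.sheaf (fun U : X.affineOpens => I₁.subschemeι ⁻¹ᵁ U.1) _
      (fun U => homOfLE le_top) (fun x _ => Opens.mem_iSup.mpr ?_) _ _ fun U => ?_
    · obtain ⟨U, hU⟩ := Opens.mem_iSup.mp ((iSup_affineOpens_eq_top X).ge (Opens.mem_top (I₁.subschemeι x)))
      exact ⟨U, hU⟩
    · refine Eq.trans ?_ (hs₁ U)
      rw [← hf U]
      exact (ConcreteCategory.congr_hom (I₁.subschemeι.naturality (homOfLE (le_top (a := U.1))).op) f).symm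
  · refine TopCat.Sheaf.eq_of_locally_eq' I₂.subscheme.sheaf (fun U : X.affineOpens => I₂.subschemeι ⁻¹ᵁ U.1) _
      (fun U => homOfLE le_top) (fun x _ => Opens.mem_iSup.mpr ?_) _ _ fun U => ?_
    · obtain ⟨U, hU⟩ := Opens.mem_iSup.mp ((iSup_affineOpens_eq_top X).ge (Opens.mem_top (I₂.subschemeι x)))
      exact ⟨U, hU⟩
    · refine Eq.trans ?_ (hs₂ U)
      rw [← hf U]
      exact (ConcreteCategory.congr_hom (I₂.subschemeι.naturality (homOfLE (le_top (a := U.1))).op) f).symm

/-- Extending a function from a closed subscheme, keeping the nonvanishing locus in a given open. -/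
theorem exists_extend {Z C : Scheme.{u}} [IsAffine Z] [IsAffine C] (i : C ⟶ Z) [IsClosedImmersion i]
    (O : Z.Opens) (c : Γ(C, ⊤)) (hc : C.basicOpen c ≤ i ⁻¹ᵁ O) :
    ∃ (n : ℕ) (a : Γ(Z, ⊤)), res i a = c ^ n ∧ Z.basicOpen a ≤ O := by
  let S : Set Γ(Z, ⊤) := {g | Z.basicOpen g ≤ O}
  have hrad : c ∈ ((Ideal.span S).map (res i)).radical := by
    rw [Ideal.radical_eq_sInf, Submodule.mem_sInf]
    rintro P ⟨hSP, hP⟩
    let y := (isAffineOpen_top C).fromSpec ⟨P, hP⟩
    have hiff : ∀ d : Γ(C, ⊤), y ∈ C.basicOpen d ↔ d ∉ P := fun d => by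
      show (⟨P, hP⟩ : PrimeSpectrum _) ∈ (isAffineOpen_top C).fromSpec ⁻¹ᵁ C.basicOpen d ↔ _
      rw [(isAffineOpen_top C).fromSpec_preimage_basicOpen]
      rfl
    by_contra hcP
    obtain ⟨g, hgO, hyg⟩ := (isAffineOpen_top Z).exists_basicOpen_le
      (⟨i y, hc ((hiff c).mpr hcP)⟩ : O) trivial
    have : y ∈ C.basicOpen (res i g) := by
      rw [← basicOpen_res_top]
      exact hyg
    exact (hiff _).mp this (hSP (Ideal.mem_map_of_mem _ (Ideal.subset_span hgO)))
  obtain ⟨n, hn⟩ := hrad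
  obtain ⟨a, ha, hae⟩ := (Ideal.mem_map_iff_of_surjective _ (res_surjective i)).mp hn
  refine ⟨n, a, hae, fun y hy => ?_⟩
  by_contra hyO
  obtain ⟨q, rfl⟩ : y ∈ Set.range (isAffineOpen_top Z).fromSpec := by
    rw [(isAffineOpen_top Z).range_fromSpec]
    trivial
  have hiff : ∀ d : Γ(Z, ⊤), (isAffineOpen_top Z).fromSpec q ∈ Z.basicOpen d ↔ d ∉ q.asIdeal := fun d => by
    show q ∈ (isAffineOpen_top Z).fromSpec ⁻¹ᵁ Z.basicOpen d ↔ _
    rw [(isAffineOpen_top Z).fromSpec_preimage_basicOpen]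
    rfl
  refine (hiff a).mp hy ((Ideal.span_le.mpr fun g hg => ?_) ha)
  by_contra hgq
  exact hyO (hg ((hiff g).mpr hgq))

omit [IsReduced X] in
theorem exists_function_around [IsAffine I₁.subscheme] [IsAffine I₂.subscheme]
    (U : X.Opens) {x : X} (hxU : x ∈ U) (hx : x ∈ I₂.support) :
    ∃ (a : Γ(I₁.subscheme, ⊤)) (b : Γ(I₂.subscheme, ⊤)), res (j₁ I₁ I₂) a = res (j₂ I₁ I₂) b ∧
      I₁.subscheme.basicOpen a ≤ I₁.subschemeι ⁻¹ᵁ U ∧ I₂.subscheme.basicOpen b ≤ I₂.subschemeι ⁻¹ᵁ U ∧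
      ∃ z : I₂.subscheme, I₂.subschemeι z = x ∧ z ∈ I₂.subscheme.basicOpen b := by
  rw [← SetLike.mem_coe, ← Scheme.IdealSheafData.range_subschemeι] at hx
  obtain ⟨z, rfl⟩ := hx
  have : IsAffine (I₁ ⊔ I₂).subscheme := isAffine_of_isAffineHom (j₁ I₁ I₂)
  obtain ⟨c, hcU, hzc⟩ := (isAffineOpen_top I₂.subscheme).exists_basicOpen_le
    (⟨z, hxU⟩ : I₂.subschemeι ⁻¹ᵁ U) trivial
  obtain ⟨n, a, ha, haU⟩ := exists_extend (j₁ I₁ I₂) (I₁.subschemeι ⁻¹ᵁ U) (res (j₂ I₁ I₂) c) (by
    rw [← basicOpen_res_top, ← Scheme.Hom.comp_preimage, Scheme.IdealSheafData.inclusion_subschemeι,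
      ← Scheme.IdealSheafData.inclusion_subschemeι (le_sup_right : I₂ ≤ I₁ ⊔ I₂), Scheme.Hom.comp_preimage]
    exact (j₂ I₁ I₂).preimage_mono hcU)
  obtain ⟨a', ha'⟩ := res_surjective (j₁ I₁ I₂) (res (j₂ I₁ I₂) c)
  refine ⟨a * a', c ^ (n + 1), ?_, ?_, ?_, z, rfl, ?_⟩
  · rw [map_mul, ha, ha', map_pow, pow_succ]
  · rw [Scheme.basicOpen_mul]
    exact inf_le_left.trans haU
  · rw [Scheme.basicOpen_pow _ _ (Nat.succ_pos n)]
    exact hcU
  · rw [Scheme.basicOpen_pow _ _ (Nat.succ_pos n)]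
    exact hzc

include hcov in
theorem isAffine_of_two [IsAffine I₁.subscheme] [IsAffine I₂.subscheme] : IsAffine X := by
  let S : Set Γ(X, ⊤) := {f | IsAffineOpen (X.basicOpen f)}
  have hS : ∀ x : X, ∃ f ∈ S, x ∈ X.basicOpen f := by
    intro x
    obtain ⟨_, ⟨U, hU, rfl⟩, hxU, -⟩ :=
      X.isBasis_affineOpens.exists_subset_of_mem_open (Set.mem_univ x) isOpen_univ
    have hU : IsAffineOpen U := hU
    have key : ∀ (J₁ J₂ : X.IdealSheafData) (hc : ∀ x : X, x ∈ J₁.support ∨ x ∈ J₂.support),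
        IsAffine J₁.subscheme → IsAffine J₂.subscheme → x ∈ J₂.support → ∃ f ∈ S, x ∈ X.basicOpen f := by
      intro J₁ J₂ hc _ _ hx
      obtain ⟨a, b, hab, haU, hbU, z, hz, hzb⟩ := exists_function_around (I₁ := J₁) (I₂ := J₂) U hxU hx
      obtain ⟨f, hfa, hfb⟩ := exists_glue hc a b hab
      have hle : X.basicOpen f ≤ U := fun y hy => by
        rcases hc y with h | h <;> rw [← SetLike.mem_coe, ← Scheme.IdealSheafData.range_subschemeι] at h <;>
          obtain ⟨w, rfl⟩ := h
        · have hw : w ∈ J₁.subschemeι ⁻¹ᵁ X.basicOpen f := hy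
          rw [basicOpen_res_top, hfa] at hw
          exact haU hw
        · have hw : w ∈ J₂.subschemeι ⁻¹ᵁ X.basicOpen f := hy
          rw [basicOpen_res_top, hfb] at hw
          exact hbU hw
      refine ⟨f, ?_, ?_⟩
      · have : X.basicOpen f = X.basicOpen (X.presheaf.map (homOfLE (le_top (a := U))).op f) := by
          rw [Scheme.basicOpen_res, inf_eq_right.mpr hle]
        show IsAffineOpen (X.basicOpen f)
        rw [this]
        exact hU.basicOpen _
      · have : z ∈ J₂.subschemeι ⁻¹ᵁ X.basicOpen f := by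
          rw [basicOpen_res_top, hfb]
          exact hzb
        exact hz ▸ this
    rcases hcov x with h | h
    · exact key I₂ I₁ (fun y => (hcov y).symm) inferInstance inferInstance h
    · exact key I₁ I₂ hcov inferInstance inferInstance h
  refine isAffine_of_isAffineOpen_basicOpen S ?_ fun f hf => hf
  by_contra hne
  obtain ⟨m, hm, hSm⟩ := Ideal.exists_le_maximal _ hne
  have : IsAffine (I₁ ⊔ I₂).subscheme := isAffine_of_isAffineHom (j₁ I₁ I₂)
  have hsurj₁ : Function.Surjective (res I₁.subschemeι) := fun a => by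
    obtain ⟨b, hb⟩ := res_surjective (j₂ I₁ I₂) (res (j₁ I₁ I₂) a)
    obtain ⟨f, hf, -⟩ := exists_glue hcov a b hb.symm
    exact ⟨f, hf⟩
  have hsurj₂ : Function.Surjective (res I₂.subschemeι) := fun b => by
    obtain ⟨a, ha⟩ := res_surjective (j₁ I₁ I₂) (res (j₂ I₁ I₂) b)
    obtain ⟨f, -, hf⟩ := exists_glue hcov a b ha
    exact ⟨f, hf⟩
  have hinf : RingHom.ker (res I₁.subschemeι) ⊓ RingHom.ker (res I₂.subschemeι) ≤ m := fun f hf => by
    have : f = 0 := eq_of_app_eq (I₁ := I₁) (I₂ := I₂) hcov f 0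
      ((RingHom.mem_ker.mp hf.1).trans (map_zero _).symm) ((RingHom.mem_ker.mp hf.2).trans (map_zero _).symm)
    exact this ▸ zero_mem m
  have key : ∀ (J : X.IdealSheafData), IsAffine J.subscheme → Function.Surjective (res J.subschemeι) →
      RingHom.ker (res J.subschemeι) ≤ m → False := by
    intro J _ hsurj hker
    have hmap : (m.map (res J.subschemeι)).IsMaximal :=
      (Ideal.map_eq_top_or_isMaximal_of_surjective _ hsurj hm).resolve_left fun h => hm.ne_top (by
        rw [← Ideal.comap_top (f := res J.subschemeι), ← h, Ideal.comap_map_of_surjective _ hsurj,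
          ← RingHom.ker_eq_comap_bot, sup_eq_left.mpr hker])
    let z := (isAffineOpen_top J.subscheme).fromSpec ⟨_, hmap.isPrime⟩
    obtain ⟨f, hfS, hzf⟩ := hS (J.subschemeι z)
    have hz : z ∈ J.subschemeι ⁻¹ᵁ X.basicOpen f := hzf
    rw [basicOpen_res_top] at hz
    have h2 : (⟨_, hmap.isPrime⟩ : PrimeSpectrum Γ(J.subscheme, ⊤)) ∈
        (isAffineOpen_top J.subscheme).fromSpec ⁻¹ᵁ J.subscheme.basicOpen (res J.subschemeι f) := hz
    rw [(isAffineOpen_top J.subscheme).fromSpec_preimage_basicOpen] at h2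
    exact h2 (Ideal.mem_map_of_mem _ (hSm (Ideal.subset_span hfS)))
  rcases hm.isPrime.inf_le.mp hinf with h | h
  · exact key I₁ inferInstance hsurj₁ h
  · exact key I₂ inferInstance hsurj₂ h

omit [IsReduced X] in
/-- A scheme covered by two closed affine subschemes is affine. -/
theorem isAffine_of_cover {Z₁ Z₂ : Scheme.{u}} (i₁ : Z₁ ⟶ X) (i₂ : Z₂ ⟶ X) [IsClosedImmersion i₁]
    [IsClosedImmersion i₂] [IsAffine Z₁] [IsAffine Z₂] (h : Set.range i₁ ∪ Set.range i₂ = Set.univ) :
    IsAffine X := by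
  let N := Scheme.IdealSheafData.vanishingIdeal (⊤ : TopologicalSpace.Closeds X)
  let t := N.subschemeι
  have : IsReduced N.subscheme := GrothLib.RedSub.isReduced_subscheme_vanishingIdeal _
  have : Surjective t := ⟨fun x => by
    have : x ∈ (N.support : Set X) := by
      rw [Scheme.IdealSheafData.coe_support_vanishingIdeal]
      trivial
    rwa [← Scheme.IdealSheafData.range_subschemeι] at this⟩
  have : IsAffine N.subscheme := by
    let p₁ := pullback.fst t i₁
    let p₂ := pullback.fst t i₂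
    have : IsClosedImmersion (pullback.snd t i₁) := MorphismProperty.pullback_snd _ _ inferInstance
    have : IsClosedImmersion (pullback.snd t i₂) := MorphismProperty.pullback_snd _ _ inferInstance
    have : IsAffine (pullback t i₁) := isAffine_of_isAffineHom (pullback.snd t i₁)
    have : IsAffine (pullback t i₂) := isAffine_of_isAffineHom (pullback.snd t i₂)
    have : IsAffine p₁.ker.subscheme := .of_isIso (inv p₁.toImage)
    have : IsAffine p₂.ker.subscheme := .of_isIso (inv p₂.toImage)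
    refine isAffine_of_two (I₁ := p₁.ker) (I₂ := p₂.ker) fun x => ?_
    have hx : t x ∈ Set.range i₁ ∪ Set.range i₂ := h ▸ Set.mem_univ _
    rcases hx with hx | hx
    · left
      rw [← SetLike.mem_coe, Scheme.Hom.support_ker]
      refine subset_closure ?_
      rw [Scheme.Pullback.range_fst]
      exact hx
    · right
      rw [← SetLike.mem_coe, Scheme.Hom.support_ker]
      refine subset_closure ?_
      rw [Scheme.Pullback.range_fst]
      exact hx
  exact GrothLib.Thickening.isAffine_of_thickening t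

end GrothLib.AffUnion
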