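import Groth.Agent.Lib.AffUnion.Basic
import Groth.Agent.Lib.AssPts.Points
import Mathlib.RingTheory.Ideal.Operations
import Mathlib.AlgebraicGeometry.Morphisms.QuasiCompact

/-!
Affine opens containing finitely many points, on a union of two closed subschemes.
-/

set_option backward.isDefEq.respectTransparency false

universe u

open CategoryTheory CategoryTheory.Limits AlgebraicGeometry TopologicalSpace Opposite
open GrothLib.WeakAss (primeAt notMem_primeAt_iff)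

namespace GrothLib.AffUnion

variable {X : Scheme.{u}}

theorem exists_coset_notMem {A : Type*} [CommRing A] (J : Ideal A) (a : A) (S : Finset (Ideal A))
    (hS : ∀ P ∈ S, P.IsPrime) (hJ : ∀ P ∈ S, ¬ J ≤ P) : ∃ e ∈ J, ∀ P ∈ S, a + e ∉ P := by
  classical
  induction S using Finset.strongInduction with
  | H S ih =>
    rcases S.eq_empty_or_nonempty with rfl | hne
    · exact ⟨0, zero_mem J, by simp⟩
    obtain ⟨P, hP⟩ := Finset.exists_minimal hne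
    have hPS : P ∈ S := hP.1
    obtain ⟨e, he, hav⟩ := ih (S.erase P) (Finset.erase_ssubset hPS)
      (fun Q hQ => hS Q (Finset.mem_of_mem_erase hQ)) (fun Q hQ => hJ Q (Finset.mem_of_mem_erase hQ))
    by_cases hae : a + e ∈ P
    · obtain ⟨e', he', he'P⟩ : ∃ e' ∈ J ⊓ (S.erase P).inf id, e' ∉ P := by
        by_contra! hle
        rcases ((hS P hPS).inf_le).mp hle with h | h
        · exact hJ P hPS h
        · obtain ⟨Q, hQ, hQP⟩ := ((hS P hPS).inf_le').mp h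
          exact (Finset.mem_erase.mp hQ).1 (le_antisymm hQP (hP.2 (Finset.mem_of_mem_erase hQ) hQP))
      refine ⟨e + e', add_mem he he'.1, fun Q hQ hmem => ?_⟩
      rw [← add_assoc] at hmem
      by_cases hQP : Q = P
      · subst hQP
        exact he'P ((Ideal.add_mem_iff_right _ hae).mp hmem)
      · exact hav Q (Finset.mem_erase.mpr ⟨hQP, hQ⟩)
          ((Ideal.add_mem_iff_left Q ((Finset.inf_le (f := id) (Finset.mem_erase.mpr ⟨hQP, hQ⟩)) he'.2)).mp hmem)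
    · exact ⟨e, he, fun Q hQ => if h : Q = P then h ▸ hae else hav Q (Finset.mem_erase.mpr ⟨h, hQ⟩)⟩

/-- A basic open of an affine open containing a finite set of points and inside a given open. -/
theorem exists_basicOpen_finset {V : X.Opens} (hV : IsAffineOpen V) (s : Finset X) (hs : ∀ t ∈ s, t ∈ V)
    (O : X.Opens) (hO : ∀ t ∈ s, t ∈ O) :
    ∃ f : Γ(X, V), X.basicOpen f ≤ O ∧ ∀ t ∈ s, t ∈ X.basicOpen f := by
  classical
  let K : Ideal Γ(X, V) := Ideal.span {g | X.basicOpen g ≤ O}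
  have hK : ∀ f ∈ K, X.basicOpen f ≤ O := by
    intro f hf y hy
    by_contra hyO
    have hyV : y ∈ V := X.basicOpen_le f hy
    refine (notMem_primeAt_iff (hx := hyV)).mpr hy ((Ideal.span_le.mpr fun g hg => ?_) hf)
    by_contra hgy
    exact hyO (hg ((notMem_primeAt_iff (hx := hyV)).mp hgy))
  obtain ⟨f, hfK, hf⟩ : ∃ f ∈ K, ∀ t : s, f ∉ primeAt t.1 (hs t.1 t.2) := by
    by_contra! h
    have hsub : (K : Set Γ(X, V)) ⊆ ⋃ P ∈ ((Finset.univ.image fun t : s => primeAt t.1 (hs t.1 t.2) :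
        Finset (Ideal Γ(X, V))) : Set (Ideal Γ(X, V))), (P : Set Γ(X, V)) := by
      intro f hf
      obtain ⟨t, ht⟩ := h f hf
      exact Set.mem_biUnion (Finset.mem_coe.mpr (Finset.mem_image.mpr ⟨t, Finset.mem_univ t, rfl⟩)) ht
    obtain ⟨P, hP, hle⟩ := (Ideal.subset_union_prime ⊥ ⊥ (fun P hP _ _ => by
      obtain ⟨t, -, rfl⟩ := Finset.mem_image.mp hP
      infer_instance)).mp hsub
    obtain ⟨t, -, rfl⟩ := Finset.mem_image.mp hP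
    obtain ⟨g, hgO, htg⟩ := hV.exists_basicOpen_le (⟨t.1, hO t.1 t.2⟩ : O) (hs t.1 t.2)
    exact (notMem_primeAt_iff.mpr htg) (hle (Ideal.subset_span hgO))
  exact ⟨f, hK f hfK, fun t ht => notMem_primeAt_iff.mp (hf ⟨t, ht⟩)⟩

/-- Lift a function from a closed subscheme, not vanishing at finitely many given points outside. -/
theorem exists_lift_avoid {Y C : Scheme.{u}} (i : C ⟶ Y) [IsClosedImmersion i] {V : Y.Opens}
    (hV : IsAffineOpen V) (c : Γ(C, i ⁻¹ᵁ V)) (s : Finset Y) (hs : ∀ t ∈ s, t ∈ V ∧ t ∉ Set.range i) :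
    ∃ f : Γ(Y, V), i.app V f = c ∧ ∀ t ∈ s, t ∈ Y.basicOpen f := by
  classical
  obtain ⟨a, ha⟩ := i.app_surjective V hV c
  have hJ : ∀ t (ht : t ∈ s), ¬ RingHom.ker (i.app V).hom ≤ primeAt t (hs t ht).1 := by
    intro t ht hle
    let O : Y.Opens := ⟨(Set.range i)ᶜ, i.isClosedEmbedding.isClosed_range.isOpen_compl⟩
    obtain ⟨g, hgO, htg⟩ := hV.exists_basicOpen_le (⟨t, (hs t ht).2⟩ : O) (hs t ht).1
    have h0 : C.basicOpen (i.app V g) = ⊥ := by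
      rw [← Scheme.preimage_basicOpen]
      exact Opens.ext (Set.eq_empty_iff_forall_notMem.mpr fun z hz => hgO hz ⟨z, rfl⟩)
    obtain ⟨n, hn⟩ := (Scheme.isNilpotent_iff_basicOpen_eq_bot_of_isCompact (hV.preimage i).isCompact _).mpr h0
    exact notMem_primeAt_iff.mpr htg ((inferInstance : (primeAt t (hs t ht).1).IsPrime).mem_of_pow_mem n
      (hle (by rw [RingHom.mem_ker, map_pow]; exact hn)))
  obtain ⟨e, he, hav⟩ := exists_coset_notMem (RingHom.ker (i.app V).hom) a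
    (Finset.univ.image fun t : s => primeAt t.1 (hs t.1 t.2).1) (fun P hP => by
      obtain ⟨t, -, rfl⟩ := Finset.mem_image.mp hP
      infer_instance) (fun P hP => by
      obtain ⟨t, -, rfl⟩ := Finset.mem_image.mp hP
      exact hJ t.1 t.2)
  refine ⟨a + e, ?_, fun t ht => notMem_primeAt_iff.mp
    (hav _ (Finset.mem_image.mpr ⟨⟨t, ht⟩, Finset.mem_univ _, rfl⟩))⟩
  rw [map_add, ha]
  exact (congrArg (c + ·) (RingHom.mem_ker.mp he)).trans (add_zero c)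

theorem exists_open_eq_preimage {Y : Scheme.{u}} (i : Y ⟶ X) [IsPreimmersion i] (W : Y.Opens) :
    ∃ U : X.Opens, i ⁻¹ᵁ U = W := by
  obtain ⟨U, hU, hUW⟩ := i.isEmbedding.isInducing.isOpen_iff.mp W.2
  exact ⟨⟨U, hU⟩, Opens.ext hUW⟩

/-- Two closed subschemes with affine neighbourhoods of finitely many points have a common one. -/
theorem exists_common {Y₁ Y₂ : Scheme.{u}} (i₁ : Y₁ ⟶ X) (i₂ : Y₂ ⟶ X) [IsClosedImmersion i₁]
    [IsClosedImmersion i₂] (U₁ U₂ : X.Opens) (h₁ : IsAffineOpen (i₁ ⁻¹ᵁ U₁)) (h₂ : IsAffineOpen (i₂ ⁻¹ᵁ U₂))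
    (T : Finset X) (hT₁ : ∀ t ∈ T, t ∈ Set.range i₁ → t ∈ U₁) (hT₂ : ∀ t ∈ T, t ∈ Set.range i₂ → t ∈ U₂) :
    ∃ U : X.Opens, IsAffineOpen (i₁ ⁻¹ᵁ U) ∧ IsAffineOpen (i₂ ⁻¹ᵁ U) ∧ ∀ t ∈ T, t ∈ U := by
  classical
  let P := pullback i₁ i₂
  let q₁ : P ⟶ Y₁ := pullback.fst i₁ i₂
  let q₂ : P ⟶ Y₂ := pullback.snd i₁ i₂
  have hq₁ : IsClosedImmersion q₁ := MorphismProperty.pullback_fst _ _ inferInstance
  have hq₂ : IsClosedImmersion q₂ := MorphismProperty.pullback_snd _ _ inferInstance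
  have hcond : ∀ z : P, i₁ (q₁ z) = i₂ (q₂ z) := fun z =>
    congrArg (fun φ : P ⟶ X => φ z) (pullback.condition (f := i₁) (g := i₂))
  let O₁ : P.Opens := q₁ ⁻¹ᵁ (i₁ ⁻¹ᵁ U₁)
  let O₂ : P.Opens := q₂ ⁻¹ᵁ (i₂ ⁻¹ᵁ U₂)
  have hO₁ : IsAffineOpen O₁ := h₁.preimage q₁
  have hO₂ : IsAffineOpen O₂ := h₂.preimage q₂
  have hinj : Function.Injective fun z : P => i₁ (q₁ z) :=
    i₁.isEmbedding.injective.comp q₁.isEmbedding.injective
  let sP : Finset P := T.preimage (fun z : P => i₁ (q₁ z)) hinj.injOn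
  have hsP₁ : ∀ z ∈ sP, z ∈ O₁ := fun z hz =>
    hT₁ _ ((Finset.mem_preimage (f := fun z : P => i₁ (q₁ z))).mp hz) ⟨_, rfl⟩
  have hsP₂ : ∀ z ∈ sP, z ∈ O₂ := fun z hz => by
    show i₂ (q₂ z) ∈ U₂
    refine hT₂ _ ?_ ⟨_, rfl⟩
    rw [← hcond]
    exact (Finset.mem_preimage (f := fun z : P => i₁ (q₁ z))).mp hz
  obtain ⟨g, hgO, hgs⟩ := exists_basicOpen_finset hO₂ sP hsP₂ O₁ hsP₁
  obtain ⟨h, hhg, hhs⟩ := exists_basicOpen_finset hO₁ sP hsP₁ (P.basicOpen g) hgs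
  -- `D(h)` is principal in `O₂`
  obtain ⟨k, hk⟩ : ∃ k : Γ(P, O₂), P.basicOpen (k * g) = P.basicOpen h := by
    let _ : Algebra Γ(P, O₂) Γ(P, P.basicOpen g) := (P.presheaf.map (homOfLE (P.basicOpen_le g)).op).hom.toAlgebra
    have := hO₂.isLocalization_basicOpen g
    obtain ⟨⟨k, _, n, rfl⟩, hkn⟩ := IsLocalization.surj (Submonoid.powers g) (P.presheaf.map (homOfLE hgO).op h)
    refine ⟨k, ?_⟩
    have hu : P.basicOpen (P.presheaf.map (homOfLE (P.basicOpen_le g)).op g) = P.basicOpen g := by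
      rw [Scheme.basicOpen_res]; exact inf_idem _
    have e : P.basicOpen (P.presheaf.map (homOfLE hgO).op h * P.presheaf.map (homOfLE (P.basicOpen_le g)).op (g ^ n)) =
        P.basicOpen (P.presheaf.map (homOfLE (P.basicOpen_le g)).op k) := congrArg P.basicOpen hkn
    rw [Scheme.basicOpen_mul, map_pow, Scheme.basicOpen_res, Scheme.basicOpen_res, inf_eq_right.mpr hhg] at e
    rw [Scheme.basicOpen_mul, inf_comm, ← e]
    rcases Nat.eq_zero_or_pos n with rfl | hn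
    · rw [pow_zero, Scheme.basicOpen_of_isUnit _ isUnit_one, inf_eq_left.mpr hhg]
    · rw [Scheme.basicOpen_pow _ _ hn, hu, inf_eq_left.mpr hhg]
  -- lifts
  let s₁ : Finset Y₁ := (T.preimage i₁ i₁.isEmbedding.injective.injOn).filter fun t => t ∉ Set.range q₁
  let s₂ : Finset Y₂ := (T.preimage i₂ i₂.isEmbedding.injective.injOn).filter fun t => t ∉ Set.range q₂
  obtain ⟨f₁, hf₁, hf₁s⟩ := exists_lift_avoid q₁ h₁ h s₁ fun t ht =>
    ⟨hT₁ _ (Finset.mem_preimage.mp (Finset.mem_filter.mp ht).1) ⟨_, rfl⟩, (Finset.mem_filter.mp ht).2⟩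
  obtain ⟨f₂, hf₂, hf₂s⟩ := exists_lift_avoid q₂ h₂ (k * g) s₂ fun t ht =>
    ⟨hT₂ _ (Finset.mem_preimage.mp (Finset.mem_filter.mp ht).1) ⟨_, rfl⟩, (Finset.mem_filter.mp ht).2⟩
  obtain ⟨W₁, hW₁⟩ := exists_open_eq_preimage i₁ (Y₁.basicOpen f₁)
  obtain ⟨W₂, hW₂⟩ := exists_open_eq_preimage i₂ (Y₂.basicOpen f₂)
  have hPmem₁ : ∀ z : P, i₁ (q₁ z) ∈ W₁ ↔ z ∈ P.basicOpen h := fun z => by
    show q₁ z ∈ i₁ ⁻¹ᵁ W₁ ↔ _
    rw [hW₁, ← hf₁, ← Scheme.preimage_basicOpen]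
    rfl
  have hPmem₂ : ∀ z : P, i₂ (q₂ z) ∈ W₂ ↔ z ∈ P.basicOpen h := fun z => by
    show q₂ z ∈ i₂ ⁻¹ᵁ W₂ ↔ _
    rw [hW₂, ← hk, ← hf₂, ← Scheme.preimage_basicOpen]
    rfl
  have hagree : ∀ (y₁ : Y₁) (y₂ : Y₂), i₁ y₁ = i₂ y₂ → (i₁ y₁ ∈ W₁ ↔ i₂ y₂ ∈ W₂) := fun y₁ y₂ e => by
    obtain ⟨z, rfl, rfl⟩ := Scheme.Pullback.exists_preimage_pullback y₁ y₂ e
    exact (hPmem₁ z).trans (hPmem₂ z).symm
  let N₁ : X.Opens := ⟨(Set.range i₁)ᶜ, i₁.isClosedEmbedding.isClosed_range.isOpen_compl⟩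
  let N₂ : X.Opens := ⟨(Set.range i₂)ᶜ, i₂.isClosedEmbedding.isClosed_range.isOpen_compl⟩
  let U : X.Opens := (W₁ ⊔ N₁) ⊓ (W₂ ⊔ N₂)
  have e₁ : i₁ ⁻¹ᵁ U = Y₁.basicOpen f₁ := by
    rw [← hW₁]
    ext y
    show (i₁ y ∈ W₁ ∨ i₁ y ∉ Set.range i₁) ∧ (i₁ y ∈ W₂ ∨ i₁ y ∉ Set.range i₂) ↔ i₁ y ∈ W₁
    refine ⟨fun h => h.1.resolve_right (not_not_intro ⟨y, rfl⟩), fun hy => ⟨Or.inl hy, ?_⟩⟩
    by_cases hr : i₁ y ∈ Set.range i₂
    · obtain ⟨y₂, e⟩ := hr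
      exact Or.inl (e ▸ (hagree y y₂ e.symm).mp hy)
    · exact Or.inr hr
  have e₂ : i₂ ⁻¹ᵁ U = Y₂.basicOpen f₂ := by
    rw [← hW₂]
    ext y
    show (i₂ y ∈ W₁ ∨ i₂ y ∉ Set.range i₁) ∧ (i₂ y ∈ W₂ ∨ i₂ y ∉ Set.range i₂) ↔ i₂ y ∈ W₂
    refine ⟨fun h => h.2.resolve_right (not_not_intro ⟨y, rfl⟩), fun hy => ⟨?_, Or.inl hy⟩⟩
    by_cases hr : i₂ y ∈ Set.range i₁
    · obtain ⟨y₁, e⟩ := hr
      exact Or.inl (e ▸ (hagree y₁ y e).mpr hy)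
    · exact Or.inr hr
  refine ⟨U, e₁ ▸ h₁.basicOpen f₁, e₂ ▸ h₂.basicOpen f₂, fun t ht => ⟨?_, ?_⟩⟩
  · by_cases hr : t ∈ Set.range i₁
    · obtain ⟨y, rfl⟩ := hr
      refine Or.inl ?_
      by_cases hq : y ∈ Set.range q₁
      · obtain ⟨z, rfl⟩ := hq
        exact (hPmem₁ z).mpr (hhs z (Finset.mem_preimage.mpr ht))
      · show y ∈ i₁ ⁻¹ᵁ W₁
        rw [hW₁]
        exact hf₁s y (Finset.mem_filter.mpr ⟨Finset.mem_preimage.mpr ht, hq⟩)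
    · exact Or.inr hr
  · by_cases hr : t ∈ Set.range i₂
    · obtain ⟨y, rfl⟩ := hr
      refine Or.inl ?_
      by_cases hq : y ∈ Set.range q₂
      · obtain ⟨z, rfl⟩ := hq
        exact (hPmem₂ z).mpr (hhs z (Finset.mem_preimage.mpr (by rw [hcond]; exact ht)))
      · show y ∈ i₂ ⁻¹ᵁ W₂
        rw [hW₂]
        exact hf₂s y (Finset.mem_filter.mpr ⟨Finset.mem_preimage.mpr ht, hq⟩)
    · exact Or.inr hr

/-- Restricted to a closed subscheme covered by the two, such an open is affine. -/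
theorem isAffineOpen_of_two {Y Y₁ Y₂ : Scheme.{u}} (j : Y ⟶ X) (j₁ : Y₁ ⟶ Y) (j₂ : Y₂ ⟶ Y)
    [IsClosedImmersion j₁] [IsClosedImmersion j₂] (hcov : Set.range j₁ ∪ Set.range j₂ = Set.univ)
    (U : X.Opens) (h₁ : IsAffineOpen (j₁ ⁻¹ᵁ (j ⁻¹ᵁ U))) (h₂ : IsAffineOpen (j₂ ⁻¹ᵁ (j ⁻¹ᵁ U))) :
    IsAffineOpen (j ⁻¹ᵁ U) := by
  have : IsAffine (j₁ ⁻¹ᵁ (j ⁻¹ᵁ U) : Scheme) := h₁
  have : IsAffine (j₂ ⁻¹ᵁ (j ⁻¹ᵁ U) : Scheme) := h₂
  have : IsClosedImmersion (j₁ ∣_ (j ⁻¹ᵁ U)) :=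
    MorphismProperty.of_isPullback (isPullback_morphismRestrict j₁ (j ⁻¹ᵁ U)).flip inferInstance
  have : IsClosedImmersion (j₂ ∣_ (j ⁻¹ᵁ U)) :=
    MorphismProperty.of_isPullback (isPullback_morphismRestrict j₂ (j ⁻¹ᵁ U)).flip inferInstance
  refine isAffine_of_cover (j₁ ∣_ (j ⁻¹ᵁ U)) (j₂ ∣_ (j ⁻¹ᵁ U)) ?_
  refine Set.eq_univ_of_forall fun y => ?_
  rcases (hcov.ge (Set.mem_univ y.1) : _) with ⟨z, hz⟩ | ⟨z, hz⟩
  · exact Or.inl ⟨⟨z, show j₁ z ∈ j ⁻¹ᵁ U from hz ▸ y.2⟩, Subtype.ext (Eq.trans (by simp [morphismRestrict_base]) hz)⟩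
  · exact Or.inr ⟨⟨z, show j₂ z ∈ j ⁻¹ᵁ U from hz ▸ y.2⟩, Subtype.ext (Eq.trans (by simp [morphismRestrict_base]) hz)⟩

end GrothLib.AffUnion
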