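import Groth.Agent.Lib.AffUnion.Nhds
import Groth.Agent.Lib.FFDesc.Basic
import Mathlib.AlgebraicGeometry.Stalk
import Mathlib.RingTheory.RingHom.FaithfullyFlat

/-!
Functions on an affine scheme near points where a morphism is a local isomorphism on stalks.
-/

set_option backward.isDefEq.respectTransparency false

universe u

open CategoryTheory AlgebraicGeometry TopologicalSpace Opposite
open GrothLib.WeakAss (primeAt notMem_primeAt_iff)

namespace GrothLib.AffUnion

variable {T X : Scheme.{u}} (f : T ⟶ X)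

theorem isIso_stalkMap_fromSpecStalk (Z : Scheme.{u}) (z : Z) (P : Spec (Z.presheaf.stalk z)) :
    IsIso ((Z.fromSpecStalk z).stalkMap P) := by
  refine (ConcreteCategory.isIso_iff_bijective _).mpr ⟨?_, (Z.fromSpecStalk z).stalkMap_surjective P⟩
  haveI := GrothLib.FFDesc.flat_fromSpecStalk' Z z
  have hf := Flat.stalkMap (Z.fromSpecStalk z) P
  letI := ((Z.fromSpecStalk z).stalkMap P).hom.toAlgebra
  haveI : Module.Flat _ _ := hf
  haveI : IsLocalHom (algebraMap (Z.presheaf.stalk (Z.fromSpecStalk z P))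
      ((Spec (Z.presheaf.stalk z)).presheaf.stalk P)) :=
    inferInstanceAs (IsLocalHom ((Z.fromSpecStalk z).stalkMap P).hom)
  haveI := Module.FaithfullyFlat.of_flat_of_isLocalHom
    (A := Z.presheaf.stalk (Z.fromSpecStalk z P)) (B := (Spec (Z.presheaf.stalk z)).presheaf.stalk P)
  exact (FaithfulSMul.algebraMap_injective _ _ :
    Function.Injective (algebraMap (Z.presheaf.stalk (Z.fromSpecStalk z P))
      ((Spec (Z.presheaf.stalk z)).presheaf.stalk P)))

theorem isIso_stalkMap_of_specializes {a t : T} (h : a ⤳ t) [IsIso (f.stalkMap t)] :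
    IsIso (f.stalkMap a) := by
  obtain ⟨P, rfl⟩ : a ∈ Set.range (T.fromSpecStalk t) := T.range_fromSpecStalk.symm ▸ h
  have h1 : IsIso ((T.fromSpecStalk t ≫ f).stalkMap P) := by
    rw [← Scheme.SpecMap_stalkMap_fromSpecStalk, Scheme.Hom.stalkMap_comp]
    have := isIso_stalkMap_fromSpecStalk X (f t) (Spec.map (f.stalkMap t) P)
    infer_instance
  rw [Scheme.Hom.stalkMap_comp] at h1
  have := isIso_stalkMap_fromSpecStalk T t P
  exact IsIso.of_isIso_comp_right _ ((T.fromSpecStalk t).stalkMap P)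

theorem exists_lift_specializes {t : T} [IsIso (f.stalkMap t)] {z : X} (h : z ⤳ f t) :
    ∃ a, a ⤳ t ∧ f a = z := by
  obtain ⟨Q, rfl⟩ : z ∈ Set.range (X.fromSpecStalk (f t)) := X.range_fromSpecStalk.symm ▸ h
  obtain ⟨P, rfl⟩ := (Spec.map (f.stalkMap t)).homeomorph.surjective Q
  refine ⟨T.fromSpecStalk t P, T.range_fromSpecStalk.le ⟨P, rfl⟩, ?_⟩
  exact (congr($(Scheme.SpecMap_stalkMap_fromSpecStalk f (x := t)) P)).symm

theorem eq_of_specializes_same {a a' t : T} [IsIso (f.stalkMap t)] (h : a ⤳ t) (h' : a' ⤳ t)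
    (e : f a = f a') : a = a' := by
  obtain ⟨P, rfl⟩ : a ∈ Set.range (T.fromSpecStalk t) := T.range_fromSpecStalk.symm ▸ h
  obtain ⟨P', rfl⟩ : a' ∈ Set.range (T.fromSpecStalk t) := T.range_fromSpecStalk.symm ▸ h'
  have hc : ∀ Q, f (T.fromSpecStalk t Q) = X.fromSpecStalk (f t) (Spec.map (f.stalkMap t) Q) :=
    fun Q => (congr($(Scheme.SpecMap_stalkMap_fromSpecStalk f (x := t)) Q)).symm
  rw [hc, hc] at e
  exact congrArg (T.fromSpecStalk t)
    ((Spec.map (f.stalkMap t)).homeomorph.injective ((X.fromSpecStalk (f t)).isEmbedding.injective e))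

/-- A section on the target having the same germ as a given function at a point of the source. -/
def Rep (b : Γ(T, ⊤)) {W : X.Opens} (σ : Γ(X, W)) (a : T) : Prop :=
  ∃ ha : f a ∈ W, T.presheaf.germ (f ⁻¹ᵁ W) a ha (f.app W σ) = T.presheaf.germ ⊤ a trivial b

theorem Rep.generize {b : Γ(T, ⊤)} {W : X.Opens} {σ : Γ(X, W)} {a a' : T} (h : Rep f b σ a)
    (ha : a' ⤳ a) : Rep f b σ a' := by
  obtain ⟨hW, e⟩ := h
  obtain ⟨O, hO, i, j, eO⟩ := T.presheaf.germ_eq a hW (Opens.mem_top a) _ _ e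
  have hO' : a' ∈ O := ha.mem_open O.2 hO
  refine ⟨i.le hO', ?_⟩
  have := congrArg (T.presheaf.germ O a' hO') eO
  rwa [TopCat.Presheaf.germ_res_apply, TopCat.Presheaf.germ_res_apply] at this

theorem exists_rep (b : Γ(T, ⊤)) (a : T) [IsIso (f.stalkMap a)] :
    ∃ (W : X.Opens) (σ : Γ(X, W)), IsAffineOpen W ∧ Rep f b σ a := by
  obtain ⟨O, hO, σ, hσ⟩ := X.presheaf.exists_germ_eq (inv (f.stalkMap a) (T.presheaf.germ ⊤ a trivial b))
  obtain ⟨_, ⟨W, hW, rfl⟩, haW, hWO⟩ := X.isBasis_affineOpens.exists_subset_of_mem_open hO O.2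
  refine ⟨W, X.presheaf.map (homOfLE (SetLike.coe_subset_coe.mp hWO)).op σ, hW, haW, ?_⟩
  rw [← Scheme.Hom.germ_stalkMap_apply, TopCat.Presheaf.germ_res_apply, hσ, ← CommRingCat.comp_apply,
    IsIso.inv_hom_id, CommRingCat.id_apply]

theorem Rep.germ_eq {b : Γ(T, ⊤)} {W W' : X.Opens} {σ : Γ(X, W)} {σ' : Γ(X, W')} {a : T}
    [IsIso (f.stalkMap a)] (h : Rep f b σ a) (h' : Rep f b σ' a) :
    X.presheaf.germ W (f a) h.1 σ = X.presheaf.germ W' (f a) h'.1 σ' := by
  apply (ConcreteCategory.bijective_of_isIso (f.stalkMap a)).1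
  rw [Scheme.Hom.germ_stalkMap_apply, Scheme.Hom.germ_stalkMap_apply, h.2, h'.2]

theorem Rep.mem_basicOpen_iff {b : Γ(T, ⊤)} {W : X.Opens} {σ : Γ(X, W)} {a : T} (h : Rep f b σ a) :
    f a ∈ X.basicOpen σ ↔ a ∈ T.basicOpen b := by
  show a ∈ f ⁻¹ᵁ X.basicOpen σ ↔ _
  rw [Scheme.preimage_basicOpen, Scheme.mem_basicOpen _ _ a h.1, Scheme.mem_basicOpen _ _ a (Opens.mem_top a), h.2]

theorem eq_of_closure_mem_irreducibleComponents {Y : Scheme.{u}} {x w : Y}
    (hx : closure ({x} : Set Y) ∈ irreducibleComponents Y) (h : w ⤳ x) : w = x :=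
  (h.antisymm (specializes_iff_closure_subset.mpr
    (hx.2 isIrreducible_singleton.closure (specializes_iff_closure_subset.mp h)))).eq

theorem eq_of_map_eq [IsAffine T]
    (hgen : ∀ η : T, closure ({η} : Set T) ∈ irreducibleComponents (T : Type u) →
      closure ({f η} : Set X) ∈ irreducibleComponents (X : Type u))
    (hinj : ∀ η η' : T, closure ({η} : Set T) ∈ irreducibleComponents (T : Type u) →
      closure ({η'} : Set T) ∈ irreducibleComponents (T : Type u) → f η = f η' → η = η')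
    {a a' : T} [IsIso (f.stalkMap a)] [IsIso (f.stalkMap a')] (e : f a = f a') : a = a' := by
  obtain ⟨η, hη⟩ := QuasiSober.sober (isIrreducible_irreducibleComponent (x := a))
    isClosed_irreducibleComponent
  have hcl : closure ({η} : Set T) = irreducibleComponent a := hη.def
  have hηc : closure ({η} : Set T) ∈ irreducibleComponents (T : Type u) :=
    hcl ▸ irreducibleComponent_mem_irreducibleComponents a
  have hηa : η ⤳ a := hη.specializes mem_irreducibleComponent
  obtain ⟨η', hη'a, hη'⟩ := exists_lift_specializes f (t := a') (e ▸ hηa.map f.continuous)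
  obtain ⟨ζ, hζ⟩ := QuasiSober.sober (isIrreducible_irreducibleComponent (x := η'))
    isClosed_irreducibleComponent
  have hcl' : closure ({ζ} : Set T) = irreducibleComponent η' := hζ.def
  have hζc : closure ({ζ} : Set T) ∈ irreducibleComponents (T : Type u) :=
    hcl' ▸ irreducibleComponent_mem_irreducibleComponents η'
  have hζη' : ζ ⤳ η' := hζ.specializes mem_irreducibleComponent
  have hζe : f ζ = f η := eq_of_closure_mem_irreducibleComponents (hgen η hηc) (hη' ▸ hζη'.map f.continuous)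
  have hζ' : ζ = η' := eq_of_specializes_same f (t := a') (hζη'.trans hη'a) hη'a (hζe.trans hη'.symm)
  have hζη : ζ = η := hinj ζ η hζc hηc hζe
  have hηa' : η ⤳ a' := hζη ▸ hζ' ▸ hη'a
  refine GrothLib.AssPts.primeAt_injective (isAffineOpen_top T) (hx := trivial) (hy := trivial) ?_
  ext b
  rw [← not_iff_not, notMem_primeAt_iff, notMem_primeAt_iff]
  obtain ⟨W, σ, -, h⟩ := exists_rep f b a
  obtain ⟨W', σ', -, h'⟩ := exists_rep f b a'
  have := isIso_stalkMap_of_specializes f hηa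
  have hg := (h.generize f hηa).germ_eq f (h'.generize f hηa')
  have hz : f a' ∈ W := e ▸ h.1
  rw [← h.mem_basicOpen_iff, ← h'.mem_basicOpen_iff, e]
  let O := W ⊓ W'
  let δ : Γ(X, O) := X.presheaf.map (homOfLE inf_le_left).op σ - X.presheaf.map (homOfLE inf_le_right).op σ'
  have hδη : f η ∉ X.basicOpen δ := fun hm => by
    have hηO : f η ∈ O := ⟨(h.generize f hηa).1, (h'.generize f hηa').1⟩
    rw [Scheme.mem_basicOpen _ _ (f η) hηO] at hm
    rw [map_sub, TopCat.Presheaf.germ_res_apply, TopCat.Presheaf.germ_res_apply, hg, sub_self] at hm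
    exact not_isUnit_zero hm
  have hδ : f a' ∉ X.basicOpen δ := fun hm => hδη ((hηa'.map f.continuous).mem_open (X.basicOpen δ).2 hm)
  have hO : f a' ∈ O := ⟨hz, h'.1⟩
  rw [Scheme.mem_basicOpen _ _ (f a') hO, map_sub, TopCat.Presheaf.germ_res_apply,
    TopCat.Presheaf.germ_res_apply, ← mem_nonunits_iff, ← IsLocalRing.mem_maximalIdeal] at hδ
  rw [Scheme.mem_basicOpen _ _ (f a') hz, Scheme.mem_basicOpen _ _ (f a') h'.1,
    ← IsLocalRing.notMem_maximalIdeal, ← IsLocalRing.notMem_maximalIdeal]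
  exact not_congr ⟨fun hx => by simpa using sub_mem hx hδ, fun hy => by simpa using add_mem hδ hy⟩

/-- A function on the source extends to a section near the images of the given points. -/
theorem exists_section [IsAffine T] [QuasiSeparatedSpace X]
    (hgen : ∀ η : T, closure ({η} : Set T) ∈ irreducibleComponents (T : Type u) →
      closure ({f η} : Set X) ∈ irreducibleComponents (X : Type u))
    (hinj : ∀ η η' : T, closure ({η} : Set T) ∈ irreducibleComponents (T : Type u) →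
      closure ({η'} : Set T) ∈ irreducibleComponents (T : Type u) → f η = f η' → η = η')
    {ι : Type u} [Finite ι] (t : ι → T) [∀ i, IsIso (f.stalkMap (t i))]
    (b : Γ(T, ⊤)) (U : X.Opens) (hb : T.basicOpen b ≤ f ⁻¹ᵁ U) :
    ∃ (N : X.Opens) (σ : Γ(X, N)), (∀ i, Rep f b σ (t i)) ∧ X.basicOpen σ ≤ U := by
  classical
  have := Fintype.ofFinite ι
  choose W σ hW hσ using fun i => exists_rep f b (t i)
  have hiso : ∀ i a, a ⤳ t i → IsIso (f.stalkMap a) := fun i a ha => isIso_stalkMap_of_specializes f ha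
  have hM : ∀ i, ∃ M : X.Opens, f (t i) ∈ M ∧ M ⊓ X.basicOpen (σ i) ≤ U := fun i =>
    exists_nhd_inter_basicOpen_le (hW i) (hσ i).1 (σ i) U fun z hz hzσ => by
      obtain ⟨a, ha, rfl⟩ := exists_lift_specializes f hz
      exact hb (((hσ i).generize f ha).mem_basicOpen_iff f |>.mp hzσ)
  choose M hM hMU using hM
  let E : ι → ι → X.Opens := fun i j =>
    sSup {O | ∃ (h : O ≤ W i) (h' : O ≤ W j),
      X.presheaf.map (homOfLE h).op (σ i) = X.presheaf.map (homOfLE h').op (σ j)}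
  have hN : ∀ i j, ∃ N N' : X.Opens, N ≤ W i ∧ N' ≤ W j ∧ f (t i) ∈ N ∧ f (t j) ∈ N' ∧ N ⊓ N' ≤ E i j :=
    fun i j => exists_nhds_inter_le (hW i) (hW j) (hσ i).1 (hσ j).1 _ fun z _ _ hzi hzj => by
      obtain ⟨a, ha, rfl⟩ := exists_lift_specializes f hzi
      obtain ⟨a', ha', ea⟩ := exists_lift_specializes f hzj
      have := hiso i a ha
      have := hiso j a' ha'
      obtain rfl : a' = a := eq_of_map_eq f hgen hinj ea
      obtain ⟨O, hO, k, l, eO⟩ := X.presheaf.germ_eq _ _ _ _ _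
        (((hσ i).generize f ha).germ_eq f ((hσ j).generize f ha'))
      exact Opens.mem_sSup.mpr ⟨O, ⟨k.le, l.le, eO⟩, hO⟩
  choose N N' hNW hN'W hNi hN'j hNE using hN
  let W' : ι → X.Opens := fun i => (W i ⊓ M i) ⊓ Finset.univ.inf fun j => N i j ⊓ N' j i
  have hW' : ∀ i, f (t i) ∈ W' i := fun i =>
    ⟨⟨(hσ i).1, hM i⟩, mem_finset_inf _ _ fun j _ => ⟨hNi i j, hN'j j i⟩⟩
  have hle : ∀ i, W' i ≤ W i := fun i => inf_le_left.trans inf_le_left
  let sf : ∀ i, Γ(X, W' i) := fun i => X.presheaf.map (homOfLE (hle i)).op (σ i)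
  obtain ⟨g, hg, -⟩ := X.sheaf.existsUnique_gluing' W' (⨆ i, W' i) (fun i => homOfLE (le_iSup W' i))
    le_rfl sf (fun i j => by
      refine TopCat.Presheaf.section_ext X.sheaf _ _ _ fun z hz => ?_
      have hzE : z ∈ E i j := hNE i j
        ⟨(Finset.inf_le (f := fun j => N i j ⊓ N' j i) (Finset.mem_univ j) hz.1.2).1,
          (Finset.inf_le (f := fun i' => N j i' ⊓ N' i' j) (Finset.mem_univ i) hz.2.2).2⟩
      obtain ⟨O, ⟨h, h', eO⟩, hzO⟩ := Opens.mem_sSup.mp hzE
      have := congrArg (X.presheaf.germ O z hzO) eO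
      simp only [sf, TopCat.Presheaf.germ_res_apply] at this ⊢
      erw [TopCat.Presheaf.germ_res_apply, TopCat.Presheaf.germ_res_apply]
      exact this)
  have hmem : ∀ i, f (t i) ∈ ⨆ i, W' i := fun i => Opens.mem_iSup.mpr ⟨i, hW' i⟩
  refine ⟨⨆ i, W' i, g, fun i => ⟨hmem i, ?_⟩, fun z hz => ?_⟩
  · rw [← Scheme.Hom.germ_stalkMap_apply, ← TopCat.Presheaf.germ_res_apply X.presheaf
      (homOfLE (le_iSup W' i)) (f (t i)) (hW' i) g]
    erw [hg i]
    rw [TopCat.Presheaf.germ_res_apply, Scheme.Hom.germ_stalkMap_apply]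
    exact (hσ i).2
  · obtain ⟨i, hi⟩ := Opens.mem_iSup.mp (X.basicOpen_le g hz)
    refine hMU i ⟨hi.1.2, ?_⟩
    have : z ∈ X.basicOpen (X.presheaf.map (homOfLE (le_iSup W' i)).op g) := by
      rw [Scheme.basicOpen_res]
      exact ⟨hi, hz⟩
    erw [hg i] at this
    rw [Scheme.basicOpen_res] at this
    exact this.2

end GrothLib.AffUnion
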