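import Groth.Agent.Lib.AssPts.Points
import Mathlib.AlgebraicGeometry.Morphisms.Affine
import Mathlib.AlgebraicGeometry.Morphisms.QuasiSeparated

/-!
Neighbourhoods of finitely many points in quasi-separated schemes, and affine opens containing them.
-/

set_option backward.isDefEq.respectTransparency false

universe u

open CategoryTheory AlgebraicGeometry TopologicalSpace Opposite
open GrothLib.WeakAss (primeAt notMem_primeAt_iff)

namespace GrothLib.AffUnion

variable {X : Scheme.{u}}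

theorem mem_finset_inf {ι : Type*} (s : Finset ι) (N : ι → X.Opens) {x : X} (h : ∀ i ∈ s, x ∈ N i) :
    x ∈ s.inf N :=
  Finset.inf_induction (p := fun O : X.Opens => x ∈ O) trivial (fun _ ha _ hb => ⟨ha, hb⟩) h

theorem basicOpen_le_of_mem_span {V O : X.Opens} {f : Γ(X, V)}
    (hf : f ∈ Ideal.span {g : Γ(X, V) | X.basicOpen g ≤ O}) : X.basicOpen f ≤ O := by
  intro y hy
  by_contra hyO
  have hyV : y ∈ V := X.basicOpen_le f hy
  refine (notMem_primeAt_iff (hx := hyV)).mpr hy ((Ideal.span_le.mpr fun g hg => ?_) hf)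
  by_contra hgy
  exact hyO (hg ((notMem_primeAt_iff (hx := hyV)).mp hgy))

/-- If the intersection of a multiplicative family of basic opens lies in an open, so does one of them. -/
theorem exists_basicOpen_le_of_forall {Q : X.Opens} (hQ : IsAffineOpen Q) (S : Submonoid Γ(X, Q))
    (U : X.Opens) (h : ∀ z ∈ Q, (∀ e ∈ S, z ∈ X.basicOpen e) → z ∈ U) :
    ∃ e ∈ S, X.basicOpen e ≤ U := by
  by_contra! hne
  let J : Ideal Γ(X, Q) := Ideal.span {g | X.basicOpen g ≤ U}
  obtain ⟨P, hP, hJP, hdisj⟩ := Ideal.exists_le_prime_disjoint J S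
    (Set.disjoint_left.mpr fun e he heS => hne e heS (basicOpen_le_of_mem_span he))
  obtain ⟨z, hz, hzP⟩ := GrothLib.AssPts.exists_point hQ P hP
  have hzU : z ∈ U := h z hz fun e he => by
    refine (notMem_primeAt_iff (hx := hz)).mp ?_
    rw [hzP]
    exact fun heP => Set.disjoint_left.mp hdisj heP he
  obtain ⟨g, hgU, hzg⟩ := hQ.exists_basicOpen_le (⟨z, hzU⟩ : U) hz
  exact (notMem_primeAt_iff (hx := hz)).mpr hzg (hzP ▸ hJP (Ideal.subset_span hgU))

theorem specializes_of_forall_mem_basicOpen {W : X.Opens} (hW : IsAffineOpen W) {z y : X} (hz : z ∈ W)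
    (hy : y ∈ W) (h : ∀ a : Γ(X, W), y ∈ X.basicOpen a → z ∈ X.basicOpen a) : z ⤳ y := by
  refine (GrothLib.AssPts.specializes_iff hW hz hy).mpr fun a ha => ?_
  by_contra hya
  exact (notMem_primeAt_iff (hx := hz)).mpr (h a ((notMem_primeAt_iff (hx := hy)).mp hya)) ha

/-- If all generizations of a point in a basic open lie in an open, this holds on a neighbourhood. -/
theorem exists_nhd_inter_basicOpen_le {W : X.Opens} (hW : IsAffineOpen W) {y : X} (hy : y ∈ W)
    (σ : Γ(X, W)) (U : X.Opens) (h : ∀ z, z ⤳ y → z ∈ X.basicOpen σ → z ∈ U) :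
    ∃ N : X.Opens, y ∈ N ∧ N ⊓ X.basicOpen σ ≤ U := by
  obtain ⟨e, he, hle⟩ := exists_basicOpen_le_of_forall hW ((primeAt y hy).primeCompl ⊔ Submonoid.powers σ) U
    fun z hz hze => h z (specializes_of_forall_mem_basicOpen hW hz hy fun a ha =>
      hze a (Submonoid.mem_sup_left (notMem_primeAt_iff.mpr ha)))
      (hze σ (Submonoid.mem_sup_right (Submonoid.mem_powers σ)))
  obtain ⟨a, ha, _, ⟨n, rfl⟩, rfl⟩ := Submonoid.mem_sup.mp he
  refine ⟨X.basicOpen a, notMem_primeAt_iff.mp ha, le_trans ?_ hle⟩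
  dsimp only
  rw [Scheme.basicOpen_mul]
  refine inf_le_inf_left _ ?_
  rcases Nat.eq_zero_or_pos n with rfl | hn
  · rw [pow_zero, Scheme.basicOpen_of_isUnit _ isUnit_one]
    exact X.basicOpen_le σ
  · exact (Scheme.basicOpen_pow _ _ hn).ge

/-- If all common generizations of two points lie in an open, the points have neighbourhoods meeting inside it. -/
theorem exists_nhds_inter_le [QuasiSeparatedSpace X] {W W' : X.Opens} (hW : IsAffineOpen W)
    (hW' : IsAffineOpen W') {y y' : X} (hy : y ∈ W) (hy' : y' ∈ W') (U : X.Opens)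
    (h : ∀ z ∈ W, z ∈ W' → z ⤳ y → z ⤳ y' → z ∈ U) :
    ∃ N N' : X.Opens, N ≤ W ∧ N' ≤ W' ∧ y ∈ N ∧ y' ∈ N' ∧ N ⊓ N' ≤ U := by
  classical
  have key : ∀ Q : {Q : X.affineOpens // Q.1 ≤ W ⊓ W'}, ∃ (a : Γ(X, W)) (a' : Γ(X, W')),
      y ∈ X.basicOpen a ∧ y' ∈ X.basicOpen a' ∧ Q.1.1 ⊓ (X.basicOpen a ⊓ X.basicOpen a') ≤ U := by
    intro Q
    let r := (X.presheaf.map (homOfLE (Q.2.trans inf_le_left)).op).hom
    let r' := (X.presheaf.map (homOfLE (Q.2.trans inf_le_right)).op).hom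
    obtain ⟨e, he, hle⟩ := exists_basicOpen_le_of_forall Q.1.2
      ((primeAt y hy).primeCompl.map r ⊔ (primeAt y' hy').primeCompl.map r') U
      fun z hz hze => h z (Q.2 hz).1 (Q.2 hz).2
        (specializes_of_forall_mem_basicOpen hW (Q.2 hz).1 hy fun a ha => by
          have : z ∈ X.basicOpen (r a) := hze _ (Submonoid.mem_sup_left ⟨a, notMem_primeAt_iff.mpr ha, rfl⟩)
          rw [Scheme.basicOpen_res] at this
          exact this.2)
        (specializes_of_forall_mem_basicOpen hW' (Q.2 hz).2 hy' fun a ha => by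
          have : z ∈ X.basicOpen (r' a) := hze _ (Submonoid.mem_sup_right ⟨a, notMem_primeAt_iff.mpr ha, rfl⟩)
          rw [Scheme.basicOpen_res] at this
          exact this.2)
    obtain ⟨_, ⟨a, ha, rfl⟩, _, ⟨a', ha', rfl⟩, rfl⟩ := Submonoid.mem_sup.mp he
    refine ⟨a, a', notMem_primeAt_iff.mp ha, notMem_primeAt_iff.mp ha', le_trans ?_ hle⟩
    rw [Scheme.basicOpen_mul, Scheme.basicOpen_res, Scheme.basicOpen_res, ← inf_inf_distrib_left]
  choose a a' ha ha' hle using key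
  obtain ⟨t, ht⟩ := (QuasiSeparatedSpace.inter_isCompact (W : Set X) (W' : Set X) W.2 hW.isCompact W'.2
    hW'.isCompact).elim_finite_subcover (fun Q : {Q : X.affineOpens // Q.1 ≤ W ⊓ W'} => (Q.1.1 : Set X))
    (fun Q => Q.1.1.2) (fun z hz => by
      obtain ⟨_, ⟨Q, hQ, rfl⟩, hzQ, hQle⟩ :=
        X.isBasis_affineOpens.exists_subset_of_mem_open (show z ∈ (W ⊓ W' : X.Opens) from hz) (W ⊓ W').2
      exact Set.mem_iUnion.mpr ⟨⟨⟨Q, hQ⟩, hQle⟩, hzQ⟩)
  refine ⟨W ⊓ t.inf fun Q => X.basicOpen (a Q), W' ⊓ t.inf fun Q => X.basicOpen (a' Q), inf_le_left,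
    inf_le_left, ⟨hy, mem_finset_inf t _ fun Q _ => ha Q⟩, ⟨hy', mem_finset_inf t _ fun Q _ => ha' Q⟩, ?_⟩
  intro z hz
  obtain ⟨Q, hQ, hzQ⟩ := Set.mem_iUnion₂.mp (ht ⟨hz.1.1, hz.2.1⟩)
  exact hle Q ⟨hzQ, Finset.inf_le (f := fun Q => X.basicOpen (a Q)) hQ hz.1.2,
    Finset.inf_le (f := fun Q => X.basicOpen (a' Q)) hQ hz.2.2⟩

/-- A basic open inside an affine open can be refined to an affine basic open. -/
theorem exists_affine_basicOpen [QuasiSeparatedSpace X] {N : X.Opens} (hN : IsCompact (N : Set X))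
    (σ : Γ(X, N)) {A : X.Opens} (hA : IsAffineOpen A) (hσA : X.basicOpen σ ≤ A) {y : X}
    (hy : y ∈ X.basicOpen σ) : ∃ k : Γ(X, N), y ∈ X.basicOpen k ∧ IsAffineOpen (X.basicOpen k) := by
  obtain ⟨r, hr, hyr⟩ := hA.exists_basicOpen_le (⟨y, hy⟩ : X.basicOpen σ) (hσA hy)
  let _ : Algebra Γ(X, N) Γ(X, X.basicOpen σ) := (X.presheaf.map (homOfLE (X.basicOpen_le σ)).op).hom.toAlgebra
  have := isLocalization_basicOpen_of_qcqs hN (IsQuasiSeparated.of_quasiSeparatedSpace _) σ
  obtain ⟨⟨k, _, n, rfl⟩, hk⟩ := IsLocalization.surj (Submonoid.powers σ) (X.presheaf.map (homOfLE hσA).op r)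
  have hu : X.basicOpen σ ≤ X.basicOpen (σ ^ n) := by
    rcases Nat.eq_zero_or_pos n with rfl | hn
    · rw [pow_zero, Scheme.basicOpen_of_isUnit _ isUnit_one]
      exact X.basicOpen_le σ
    · exact (Scheme.basicOpen_pow _ _ hn).ge
  have e : X.basicOpen (X.presheaf.map (homOfLE hσA).op r *
      X.presheaf.map (homOfLE (X.basicOpen_le σ)).op (σ ^ n)) =
      X.basicOpen (X.presheaf.map (homOfLE (X.basicOpen_le σ)).op k) := congrArg X.basicOpen hk
  rw [Scheme.basicOpen_mul, Scheme.basicOpen_res, Scheme.basicOpen_res, Scheme.basicOpen_res,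
    inf_eq_right.mpr hr, inf_eq_left.mpr hu, inf_eq_left.mpr hr] at e
  refine ⟨σ * k, ?_, ?_⟩ <;> rw [Scheme.basicOpen_mul, ← e]
  · exact hyr
  · exact hA.basicOpen r

/-- Finitely many points in affine basic opens of global sections lie in a common affine open. -/
theorem exists_isAffineOpen_of_basicOpen [QuasiSeparatedSpace X] {N : X.Opens} {ι : Type u} [Finite ι]
    (y : ι → X) (k : ι → Γ(X, N)) (hy : ∀ i, y i ∈ X.basicOpen (k i))
    (hk : ∀ i, IsAffineOpen (X.basicOpen (k i))) : ∃ U : X.Opens, IsAffineOpen U ∧ ∀ i, y i ∈ U := by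
  classical
  have := Fintype.ofFinite ι
  have hyN : ∀ i, y i ∈ N := fun i => X.basicOpen_le _ (hy i)
  obtain ⟨h, hK, hh⟩ : ∃ h ∈ Ideal.span (Set.range k), ∀ i, h ∉ primeAt (y i) (hyN i) := by
    by_contra! hne
    have hsub : (Ideal.span (Set.range k) : Set Γ(X, N)) ⊆
        ⋃ P ∈ ((Finset.univ.image fun i => primeAt (y i) (hyN i) :
          Finset (Ideal Γ(X, N))) : Set (Ideal Γ(X, N))), (P : Set Γ(X, N)) := fun f hf => by
      obtain ⟨i, hi⟩ := hne f hf
      exact Set.mem_biUnion (Finset.mem_coe.mpr (Finset.mem_image.mpr ⟨i, Finset.mem_univ i, rfl⟩)) hi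
    obtain ⟨P, hP, hle⟩ := (Ideal.subset_union_prime ⊥ ⊥ (fun P hP _ _ => by
      obtain ⟨i, -, rfl⟩ := Finset.mem_image.mp hP
      infer_instance)).mp hsub
    obtain ⟨i, -, rfl⟩ := Finset.mem_image.mp hP
    exact notMem_primeAt_iff.mpr (hy i) (hle (Ideal.subset_span ⟨i, rfl⟩))
  refine ⟨X.basicOpen h, ?_, fun i => notMem_primeAt_iff.mp (hh i)⟩
  let r := (X.presheaf.map (homOfLE (X.basicOpen_le h)).op).hom
  refine isAffineOpen_of_isAffineOpen_basicOpen _ (Set.range fun i => r (k i)) ?_ ?_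
  · have hu : r h ∈ Ideal.span (Set.range fun i => r (k i)) := by
      rw [show (Set.range fun i => r (k i)) = r '' Set.range k from Set.range_comp r k, ← Ideal.map_span]
      exact Ideal.mem_map_of_mem r hK
    exact Ideal.eq_top_of_isUnit_mem _ hu (RingedSpace.isUnit_res_basicOpen _ h)
  · rintro _ ⟨i, rfl⟩
    have e : X.basicOpen (r (k i)) =
        X.basicOpen (X.presheaf.map (homOfLE (X.basicOpen_le (k i))).op h) := by
      rw [Scheme.basicOpen_res, Scheme.basicOpen_res, inf_comm]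
    rw [e]
    exact (hk i).basicOpen _

end GrothLib.AffUnion
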